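import Groth.Agent.AVDegLib.Tangent
import Groth.Agent.AVDegPoly.Quad
import Groth.Agent.AutCurve.Unram
import Groth.Agent.CurveFF.Base
import Groth.Agent.H23.EquidimFibres
import Groth.Agent.IsogLib.KernelSub

/-!
# Etale homomorphisms of elliptic curves and tangent vectors
-/

set_option autoImplicit false
set_option linter.style.haveILetI false
set_option linter.unusedSectionVars false
set_option backward.isDefEq.respectTransparency false
set_option backward.isDefEq.respectTransparency.types false
set_option synthInstance.maxHeartbeats 400000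
set_option maxHeartbeats 1000000

universe u

open CategoryTheory CategoryTheory.Limits MonoidalCategory CartesianMonoidalCategory MonObj AlgebraicGeometry
open TrivSqZeroExt

namespace Groth.Agent.ECEtale

open Groth.Agent.GrpSchLib Groth.Agent.H23.MulTangent

variable {K : Type u} [Field K] [IsAlgClosed K]
  {E E' : Over (Spec (CommRingCat.of K))} [GrpObj E] [IsProper E.hom] [Smooth E.hom] [IsIntegral E.left]
  [GrpObj E'] [IsProper E'.hom] [Smooth E'.hom] [IsIntegral E'.left]

/-- A chart at the unit in which a tangent vector is determined by its value on a uniformizer. -/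
theorem exists_uniformizer_chart (hE : topologicalKrullDim E.left = 1) :
    ∃ (B : Type u) (_ : CommRing B) (_ : Algebra K B) (j : Spec (CommRingCat.of B) ⟶ E.left)
      (_ : IsOpenImmersion j) (hj : j ≫ E.hom = Spec.map (CommRingCat.ofHom (algebraMap K B)))
      (χ : B →ₐ[K] K), pt j hj χ = 1 ∧ ∃ ϖ : B, χ ϖ = 0 ∧
        (∀ (L : Type u) [Field L] [Algebra K L] (g g' : B →ₐ[K] TrivSqZeroExt L L),
          (TrivSqZeroExt.fstHom K L L).comp g = (Algebra.ofId K L).comp χ →
          (TrivSqZeroExt.fstHom K L L).comp g' = (Algebra.ofId K L).comp χ →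
          (g ϖ).snd = (g' ϖ).snd → g = g') ∧
        ∃ g₀ : B →ₐ[K] TrivSqZeroExt K K, (TrivSqZeroExt.fstHom K K K).comp g₀ = χ ∧ (g₀ ϖ).snd = 1 := by
  obtain ⟨W, hW, heW, -⟩ := exists_isAffineOpen_mem_and_subset
    (x := η[E].left (IsLocalRing.closedPoint K)) (U := ⊤) trivial
  obtain ⟨φ, hφ⟩ := Spec.map_surjective (hW.fromSpec ≫ E.hom)
  letI : Algebra K Γ(E.left, W) := φ.hom.toAlgebra
  have hr : Set.range (1 : specOver K K ⟶ E).left ⊆ Set.range hW.fromSpec := by
    rintro _ ⟨q, rfl⟩
    rw [hW.range_fromSpec, Hom.one_def]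
    have hp' : (toUnit (specOver K K)).left q = IsLocalRing.closedPoint K :=
      Subsingleton.elim (α := PrimeSpectrum K) _ _
    show η[E].left ((toUnit (specOver K K)).left q) ∈ W
    rw [hp']
    exact heW
  obtain ⟨χ, hχ⟩ := exists_pt_of_range hW.fromSpec hφ.symm _ hr
  let B := Γ(E.left, W)
  have hχc : ∀ c : K, χ (algebraMap K Γ(E.left, W) c) = c := fun c => χ.commutes c
  let m : Ideal B := RingHom.ker χ.toRingHom
  haveI hm : m.IsMaximal := RingHom.ker_isMaximal_of_surjective _ fun c => ⟨algebraMap K B c, χ.commutes c⟩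
  let x : PrimeSpectrum B := ⟨m, hm.isPrime⟩
  let z : E.left := hW.fromSpec x
  have hzW : z ∈ W := by
    have h : z ∈ Set.range hW.fromSpec := ⟨x, rfl⟩
    rwa [hW.range_fromSpec] at h
  have hz : IsClosed ({z} : Set E.left) := by
    let s : Spec (CommRingCat.of K) ⟶ E.left := (pt hW.fromSpec hφ.symm χ).left
    have hs : s ≫ E.hom = 𝟙 _ := by
      have h := Over.w (pt hW.fromSpec hφ.symm χ)
      exact h.trans (Spec.map_id _)
    haveI : IsClosedImmersion s := by
      haveI : IsClosedImmersion (s ≫ E.hom) := by rw [hs]; infer_instance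
      exact IsClosedImmersion.of_comp s E.hom
    have hsz : Set.range s = {z} := by
      refine Set.eq_singleton_iff_unique_mem.2 ⟨⟨IsLocalRing.closedPoint K, ?_⟩, ?_⟩
      · refine congrArg hW.fromSpec (PrimeSpectrum.ext ?_)
        show (IsLocalRing.maximalIdeal K).comap χ.toRingHom = m
        rw [IsLocalRing.maximalIdeal_eq_bot]
        rfl
      · rintro _ ⟨q, rfl⟩
        refine congrArg hW.fromSpec (PrimeSpectrum.ext ?_)
        show Ideal.comap χ.toRingHom q.asIdeal = m
        rw [show q.asIdeal = ⊥ from (Ideal.eq_bot_or_top _).resolve_right q.isPrime.ne_top]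
        rfl
    rw [← hsz]
    exact s.isClosedEmbedding.isClosed_range
  letI : E.left.Over (Spec (CommRingCat.of K)) := ⟨E.hom⟩
  haveI : IsProper (E.left ↘ Spec (CommRingCat.of K)) := ‹IsProper E.hom›
  haveI : Smooth (E.left ↘ Spec (CommRingCat.of K)) := ‹Smooth E.hom›
  haveI hdvr : IsDiscreteValuationRing (E.left.presheaf.stalk z) := CurveFF.isDVR K E.left hE hz
  letI : Algebra B (E.left.presheaf.stalk z) := E.left.presheaf.algebra_section_stalk ⟨z, hzW⟩
  haveI hloc : IsLocalization.AtPrime (E.left.presheaf.stalk z) m := by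
    have hp : hW.primeIdealOf ⟨z, hzW⟩ = x :=
      hW.fromSpec.isOpenEmbedding.injective (hW.fromSpec_primeIdealOf ⟨z, hzW⟩)
    have h := hW.isLocalization_stalk ⟨z, hzW⟩
    rwa [hp] at h
  obtain ⟨π, hπ⟩ := IsDiscreteValuationRing.exists_irreducible (E.left.presheaf.stalk z)
  obtain ⟨p, s, hps⟩ := IsLocalization.exists_mk'_eq m.primeCompl π
  have hpm : χ p = 0 := by
    have h : π ∈ IsLocalRing.maximalIdeal (E.left.presheaf.stalk z) := hπ.not_isUnit
    rw [← hps] at h
    exact (IsLocalization.AtPrime.mk'_mem_maximal_iff _ m p s).1 h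
  have hgen : ∀ b : B, χ b = 0 → ∃ t : B, t ∉ m ∧ ∃ c, t * b = c * p := by
    intro b hb
    have h : algebraMap B (E.left.presheaf.stalk z) b ∈ IsLocalRing.maximalIdeal (E.left.presheaf.stalk z) :=
      (IsLocalization.AtPrime.to_map_mem_maximal_iff _ m b).2 hb
    rw [hπ.maximalIdeal_eq, ← hps, Ideal.mem_span_singleton] at h
    obtain ⟨w, hw⟩ := h
    obtain ⟨c, t, rfl⟩ := IsLocalization.exists_mk'_eq m.primeCompl w
    rw [← IsLocalization.mk'_mul, eq_comm, IsLocalization.mk'_eq_iff_eq_mul, ← map_mul] at hw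
    obtain ⟨⟨e, he⟩, hee⟩ := (IsLocalization.eq_iff_exists m.primeCompl _).1 hw
    refine ⟨e * ((s : B) * t), (m.primeCompl.mul_mem he (m.primeCompl.mul_mem s.2 t.2)), e * c, ?_⟩
    calc e * ((s : B) * t) * b = e * (b * ((s * t : m.primeCompl) : B)) := by rw [Submonoid.coe_mul]; ring
      _ = e * (p * c) := hee.symm
      _ = e * c * p := by ring
  refine ⟨B, inferInstance, inferInstance, hW.fromSpec, inferInstance, hφ.symm, χ, hχ, p, hpm, ?_, ?_⟩
  · intro L _ _ g g' hg hg' hpp
    refine AlgHom.ext fun b => TrivSqZeroExt.ext ((AlgHom.congr_fun hg b).trans (AlgHom.congr_fun hg' b).symm) ?_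
    have hb0 : χ (b - algebraMap K B (χ b)) = 0 := by rw [map_sub, AlgHom.commutes, Algebra.algebraMap_self]; simp
    obtain ⟨t, ht, c, htc⟩ := hgen _ hb0
    have hfst : ∀ (G : B →ₐ[K] TrivSqZeroExt L L), (TrivSqZeroExt.fstHom K L L).comp G = (Algebra.ofId K L).comp χ →
        algebraMap K L (χ t) * (G b).snd = algebraMap K L (χ c) * (G p).snd := by
      intro G hG
      have hf : ∀ y : B, (G y).fst = algebraMap K L (χ y) := fun y => AlgHom.congr_fun hG y
      have h := congrArg (fun y => (G y).snd) htc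
      simp only [map_mul, TrivSqZeroExt.snd_mul, hf, hpm, map_zero, hb0, MulOpposite.op_zero, zero_smul, smul_zero,
        add_zero, map_sub, AlgHom.commutes, TrivSqZeroExt.algebraMap_eq_inl', TrivSqZeroExt.snd_sub,
        TrivSqZeroExt.snd_inl, sub_zero, TrivSqZeroExt.fst_sub, TrivSqZeroExt.fst_inl, sub_self, hf, MulOpposite.op_zero, zero_smul, add_zero, smul_eq_mul] at h
      exact h
    have hne : algebraMap K L (χ t) ≠ 0 := (map_ne_zero _).2 ht
    exact mul_left_cancel₀ hne ((hfst g hg).trans ((congrArg _ hpp).trans (hfst g' hg').symm))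
  · let V := IsLocalRing.maximalIdeal (E.left.presheaf.stalk z)
    have hne : algebraMap B (E.left.presheaf.stalk z) p ∉ V ^ 2 := by
      intro h
      have hu : IsUnit (algebraMap B (E.left.presheaf.stalk z) s) := IsLocalization.map_units _ s
      have h' : π ∈ V ^ 2 := by
        rw [← hps, IsLocalization.mk'_eq_mul_mk'_one]
        exact Ideal.mul_mem_right _ _ h
      simp only [V] at h'
      rw [hπ.maximalIdeal_eq, Ideal.span_singleton_pow, Ideal.mem_span_singleton, pow_two] at h'
      obtain ⟨w, hw⟩ := h'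
      exact hπ.not_isUnit (IsUnit.of_mul_eq_one w (mul_left_cancel₀ hπ.ne_zero (by rw [_root_.mul_one, ← _root_.mul_assoc]; exact hw.symm)))
    have hp2 : p ∉ m ^ 2 := fun h => hne <| by
      have := Ideal.mem_map_of_mem (algebraMap B (E.left.presheaf.stalk z)) h
      rwa [Ideal.map_pow, IsLocalization.AtPrime.map_eq_maximalIdeal m (E.left.presheaf.stalk z)] at this
    obtain ⟨f, hf, hf2⟩ : ∃ f : B →ₗ[K] K, f p ≠ 0 ∧ ∀ y ∈ m ^ 2, f y = 0 := by
      obtain ⟨ℓ, hℓ⟩ := Module.Projective.exists_dual_ne_zero K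
        (show (Submodule.Quotient.mk p : B ⧸ (m ^ 2).restrictScalars K) ≠ 0 by
          rwa [Ne, Submodule.Quotient.mk_eq_zero])
      exact ⟨ℓ ∘ₗ ((m ^ 2).restrictScalars K).mkQ, hℓ, fun y hy => by
        exact (congrArg ℓ ((Submodule.Quotient.mk_eq_zero ((m ^ 2).restrictScalars K)).2 hy)).trans (map_zero ℓ)⟩
    let f₁ : B → K := fun b => (f p)⁻¹ * f (b - algebraMap K B (χ b))
    have hmul : ∀ a b, f (a * b - algebraMap K B (χ (a * b))) =
        χ a * f (b - algebraMap K B (χ b)) + χ b * f (a - algebraMap K B (χ a)) := by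
      intro a b
      have h0 : f ((a - algebraMap K B (χ a)) * (b - algebraMap K B (χ b))) = 0 := hf2 _ (by
        rw [pow_two]
        exact Ideal.mul_mem_mul (show χ _ = 0 by rw [map_sub, hχc, sub_self]) (show χ _ = 0 by rw [map_sub, hχc, sub_self]))
      have e : a * b - algebraMap K B (χ (a * b)) = (a - algebraMap K B (χ a)) * (b - algebraMap K B (χ b)) +
          χ a • (b - algebraMap K B (χ b)) + χ b • (a - algebraMap K B (χ a)) := by
        rw [map_mul, map_mul, Algebra.smul_def, Algebra.smul_def]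
        ring
      rw [e, map_add, map_add, h0, map_smul, map_smul, zero_add, smul_eq_mul, smul_eq_mul]
    let g₀ : B →ₐ[K] TrivSqZeroExt K K :=
      { toFun := fun b => TrivSqZeroExt.inl (χ b) + TrivSqZeroExt.inr (f₁ b)
        map_one' := by
          ext <;> simp [f₁]
        map_mul' := fun a b => by
          ext
          · simp
          · simp only [TrivSqZeroExt.snd_add, TrivSqZeroExt.snd_inl, TrivSqZeroExt.snd_inr, zero_add,
              TrivSqZeroExt.snd_mul, TrivSqZeroExt.fst_add, TrivSqZeroExt.fst_inl, TrivSqZeroExt.fst_inr, add_zero,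
              smul_eq_mul, op_smul_eq_smul, f₁, hmul]
            ring
        map_zero' := by ext <;> simp [f₁]
        map_add' := fun a b => by
          ext
          · simp
          · simp only [TrivSqZeroExt.snd_add, TrivSqZeroExt.snd_inl, TrivSqZeroExt.snd_inr, zero_add, f₁]
            rw [← mul_add, ← map_add, map_add, map_add]
            congr 2
            ring
        commutes' := fun c => by
          ext
          · simp only [TrivSqZeroExt.fst_add, TrivSqZeroExt.fst_inl, TrivSqZeroExt.fst_inr, TrivSqZeroExt.algebraMap_eq_inl, add_zero]; exact hχc c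
          · simp only [TrivSqZeroExt.snd_add, TrivSqZeroExt.snd_inl, TrivSqZeroExt.snd_inr, TrivSqZeroExt.algebraMap_eq_inl, zero_add, f₁]; erw [hχc c]; rw [sub_self, map_zero, mul_zero] }
    refine ⟨g₀, AlgHom.ext fun b => ?_, ?_⟩
    · show (TrivSqZeroExt.inl (χ b) + TrivSqZeroExt.inr (f₁ b)).fst = χ b
      simp
    · show (TrivSqZeroExt.inl (χ p) + TrivSqZeroExt.inr (f₁ p)).snd = 1
      simp [f₁, hpm, hf]

/-- Extension of scalars of dual numbers. -/
noncomputable def dualExt (L : Type u) [Field L] [Algebra K L] : TrivSqZeroExt K K →ₐ[K] TrivSqZeroExt L L where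
  toFun x := TrivSqZeroExt.inl (algebraMap K L x.fst) + TrivSqZeroExt.inr (algebraMap K L x.snd)
  map_one' := by ext <;> simp
  map_mul' x y := by
    ext <;> simp only [TrivSqZeroExt.fst_mul, TrivSqZeroExt.snd_mul, TrivSqZeroExt.fst_add, TrivSqZeroExt.snd_add,
      TrivSqZeroExt.fst_inl, TrivSqZeroExt.snd_inl, TrivSqZeroExt.fst_inr, TrivSqZeroExt.snd_inr, smul_eq_mul,
      op_smul_eq_smul, map_add, map_mul] <;> ring
  map_zero' := by ext <;> simp
  map_add' x y := by
    ext <;> simp only [TrivSqZeroExt.fst_add, TrivSqZeroExt.snd_add, TrivSqZeroExt.fst_inl, TrivSqZeroExt.snd_inl,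
      TrivSqZeroExt.fst_inr, TrivSqZeroExt.snd_inr, map_add] <;> ring
  commutes' c := by ext <;> simp [TrivSqZeroExt.algebraMap_eq_inl']

theorem dualExt_injective (L : Type u) [Field L] [Algebra K L] : Function.Injective (dualExt (K := K) L) := by
  intro x y h
  refine TrivSqZeroExt.ext ?_ ?_
  · have h1 := congrArg TrivSqZeroExt.fst h
    simp [dualExt] at h1
    exact h1
  · have h1 := congrArg TrivSqZeroExt.snd h
    simp [dualExt] at h1
    exact h1

theorem fst_dualExt (L : Type u) [Field L] [Algebra K L] (x : TrivSqZeroExt K K) :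
    (dualExt L x).fst = algebraMap K L x.fst := by simp [dualExt]

theorem snd_dualExt (L : Type u) [Field L] [Algebra K L] (x : TrivSqZeroExt K K) :
    (dualExt L x).snd = algebraMap K L x.snd := by
  show (TrivSqZeroExt.inl (algebraMap K L x.fst) + TrivSqZeroExt.inr (algebraMap K L x.snd)).snd = _
  rw [TrivSqZeroExt.snd_add, TrivSqZeroExt.snd_inl, TrivSqZeroExt.snd_inr, zero_add]

theorem closure_eq_univ_of_not_isClosed {T : Type u} [TopologicalSpace T] [QuasiSober T] [IrreducibleSpace T]
    [CompactSpace T] [T0Space T] (hT : topologicalKrullDim T = 1) {ζ : T} (hζ : ¬ IsClosed ({ζ} : Set T)) :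
    closure {ζ} = Set.univ := by
  by_contra hne
  obtain ⟨w, hw, hwc⟩ : ∃ w ∈ closure ({ζ} : Set T), IsClosed ({w} : Set T) :=
    IsClosed.exists_closed_singleton isClosed_closure (Set.singleton_nonempty ζ).closure
  have hwζ : w ≠ ζ := fun h => hζ (h ▸ hwc)
  let Z₀ : TopologicalSpace.IrreducibleCloseds T := ⟨{w}, isIrreducible_singleton, hwc⟩
  let Z₁ : TopologicalSpace.IrreducibleCloseds T := ⟨closure {ζ}, isIrreducible_singleton.closure, isClosed_closure⟩
  let Z₂ : TopologicalSpace.IrreducibleCloseds T := ⟨Set.univ, IrreducibleSpace.isIrreducible_univ T, isClosed_univ⟩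
  have h01 : Z₀ < Z₁ := by
    refine lt_of_le_of_ne (Set.singleton_subset_iff.2 hw) fun h => ?_
    have h' : ({w} : Set T) = closure {ζ} := congrArg (fun Z : TopologicalSpace.IrreducibleCloseds T => (Z : Set T)) h
    exact hwζ (Set.mem_singleton_iff.1 (h' ▸ subset_closure (Set.mem_singleton ζ))).symm
  have h12 : Z₁ < Z₂ := lt_of_le_of_ne (Set.subset_univ _) fun h =>
    hne (congrArg (fun Z : TopologicalSpace.IrreducibleCloseds T => (Z : Set T)) h)
  have h := Order.LTSeries.length_le_krullDim (LTSeries.mk 2 ![Z₀, Z₁, Z₂]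
    (Fin.strictMono_iff_lt_succ.2 fun i => by fin_cases i <;> simp [h01, h12]))
  rw [topologicalKrullDim] at hT
  rw [hT] at h
  exact absurd h (by simp)

variable [IsCommMonObj E] [IsCommMonObj E']

/-- A tangent vector detecting etale homomorphisms. -/
theorem exists_tangent (hE : topologicalKrullDim E.left = 1) (hE' : topologicalKrullDim E'.left = 1) :
    ∃ t₀ : specOver K (TrivSqZeroExt K K) ⟶ E, specHom (TrivSqZeroExt.fstHom K K K) ≫ t₀ = 1 ∧
      (∀ (ψ : E ⟶ E') [IsMonHom ψ], t₀ ≫ ψ ≠ 1 → IsFinite ψ.left ∧ Surjective ψ.left ∧ Etale ψ.left) ∧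
      ∀ (ψ : E ⟶ E') [IsMonHom ψ], Etale ψ.left → t₀ ≫ ψ ≠ 1 := by
  obtain ⟨B, _, _, j, _, hj, χ, hone, ϖ, hϖ, hdet, g₀, hg₀, hg₀ϖ⟩ := exists_uniformizer_chart hE
  obtain ⟨B', _, _, j', _, hj', χ', hone'⟩ := exists_chart (X := E') η
  have hone' : pt j' hj' χ' = 1 := hone'
  let t₀ := pt j hj g₀
  have ht₀ : specHom (TrivSqZeroExt.fstHom K K K) ≫ t₀ = 1 := by rw [pt_comp, hg₀, hone]
  haveI : GeometricallyIntegral E.hom := H23.EquidimFibres.geometricallyIntegral_of_isAlgClosed
  haveI : GeometricallyIntegral E'.hom := H23.EquidimFibres.geometricallyIntegral_of_isAlgClosed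
  refine ⟨t₀, ht₀, fun ψ _ hψ => ?_, fun ψ _ hψe hc => ?_⟩
  · have hfin : IsFinite ψ.left := by
      refine IsogLib.isFinite_of_finite_ker ψ ?_
      by_contra hinf
      obtain ⟨N, _, i, hi, hic, hNp, hNi, hns, hif⟩ := IsogLib.exists_abelian_sub_ker ψ hinf
      haveI := hNi
      haveI := hic
      haveI : IsIntegral N.left := GeometricallyIntegral.isIntegral_of_subsingleton N.hom
      refine hψ ?_
      have hsurj : Surjective i.left := by
        refine ⟨fun y => ?_⟩
        haveI : CompactSpace E.left := QuasiCompact.compactSpace_of_compactSpace E.hom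
        let ζ := i.left (genericPoint N.left)
        have hrc : IsClosed (Set.range i.left) := i.left.isClosedEmbedding.isClosed_range
        by_cases hζ : IsClosed ({ζ} : Set E.left)
        · refine (hns ⟨fun u v => i.left.isClosedEmbedding.injective ?_⟩).elim
          have h' : ∀ u, i.left u = ζ := fun u =>
            Set.mem_singleton_iff.1 (((genericPoint_specializes u).map i.left.continuous).mem_closed hζ rfl)
          rw [h' u, h' v]
        · have hu : closure {ζ} = Set.univ := closure_eq_univ_of_not_isClosed hE hζ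
          exact closure_minimal (Set.singleton_subset_iff.2 (show ζ ∈ Set.range i.left from ⟨_, rfl⟩)) hrc (show y ∈ closure {ζ} by rw [hu]; trivial)
      haveI := hsurj
      haveI : IsIso i.left := isIso_of_isClosedImmersion_of_surjective i.left
      haveI : IsIso ((Over.forget _).map i) := ‹IsIso i.left›
      haveI : IsIso i := isIso_of_reflects_iso i (Over.forget _)
      rw [show ψ = 1 from (cancel_epi i).1 (hif.trans (MonObj.comp_one i).symm), MonObj.comp_one]
    haveI := hfin
    obtain ⟨hs, hfl, hfp⟩ := AVDegPoly.finite_props ψ (g := 1) hE hE'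
    haveI := hfl
    haveI := hfp
    haveI : FormallyUnramified ψ.left := by
      refine AutCurve.formallyUnramified_of_dual ψ.left fun L _ _ s v₁ v₂ h₁ h₂ h₀ => ?_
      obtain ⟨c, hc⟩ := Spec.map_surjective (s ≫ E'.hom)
      letI : Algebra K L := c.hom.toAlgebra
      have hstr : ∀ v : Spec (CommRingCat.of (DualNumber L)) ⟶ E.left,
          v ≫ ψ.left = Spec.map (CommRingCat.ofHom (algebraMap L (DualNumber L))) ≫ s →
          v ≫ E.hom = Spec.map (CommRingCat.ofHom (algebraMap K (TrivSqZeroExt L L))) := by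
        intro v hv
        rw [← Over.w ψ, ← Category.assoc, hv, Category.assoc, ← hc, ← Spec.map_comp]
        congr 1
      let V₁ : specOver K (TrivSqZeroExt L L) ⟶ E := Over.homMk v₁ (hstr v₁ h₁)
      let V₂ : specOver K (TrivSqZeroExt L L) ⟶ E := Over.homMk v₂ (hstr v₂ h₂)
      have hV0 : specHom (TrivSqZeroExt.fstHom K L L) ≫ V₁ = specHom (TrivSqZeroExt.fstHom K L L) ≫ V₂ :=
        Over.OverMorphism.ext h₀
      have hVψ : V₁ ≫ ψ = V₂ ≫ ψ := Over.OverMorphism.ext (h₁.trans h₂.symm)
      let t := V₁ * V₂⁻¹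
      have ht : specHom (TrivSqZeroExt.fstHom K L L) ≫ t = 1 := by
        rw [MonObj.comp_mul, GrpObj.comp_inv, hV0, mul_inv_cancel]
      have htψ : t ≫ ψ = 1 := by rw [MonObj.mul_comp, GrpObj.inv_comp, hVψ, mul_inv_cancel]
      suffices hh : t = 1 from congrArg (fun f : specOver K (TrivSqZeroExt L L) ⟶ E => f.left) (mul_inv_eq_one.1 hh)
      obtain ⟨g, hg, hgt⟩ := AVDegLib.exists_chart_pt j hj hone L L t ht
      let cst : B →ₐ[K] TrivSqZeroExt L L := (TrivSqZeroExt.inlAlgHom K L L).comp ((Algebra.ofId K L).comp χ)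
      have hcst : pt j hj cst = 1 := by
        rw [← pt_comp, show pt j hj ((Algebra.ofId K L).comp χ) = 1 by rw [← pt_comp, hone, MonObj.comp_one],
          MonObj.comp_one]
      by_cases hD : (g ϖ).snd = 0
      · rw [← hgt, ← hcst, hdet L g cst hg (AlgHom.ext fun b => by simp [cst]) (by rw [hD]; simp [cst, hϖ])]
      exfalso
      let σ : TrivSqZeroExt L L →ₐ[K] TrivSqZeroExt L L :=
        (TrivSqZeroExt.map (((g ϖ).snd)⁻¹ • (LinearMap.id : L →ₗ[L] L))).restrictScalars K
      have hσ : σ.comp g = (dualExt L).comp g₀ := by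
        refine hdet L _ _ (AlgHom.ext fun b => ?_) (AlgHom.ext fun b => ?_) ?_
        · show (σ (g b)).fst = _
          simp only [σ, AlgHom.restrictScalars_apply, TrivSqZeroExt.fst_map]
          exact AlgHom.congr_fun hg b
        · show (dualExt L (g₀ b)).fst = _
          rw [fst_dualExt]
          exact congrArg (algebraMap K L) (AlgHom.congr_fun hg₀ b)
        · show (σ (g ϖ)).snd = (dualExt L (g₀ ϖ)).snd
          simp only [σ, AlgHom.restrictScalars_apply, TrivSqZeroExt.snd_map, snd_dualExt, hg₀ϖ, map_one]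
          simp [inv_mul_cancel₀ hD]
      have hex : specHom (dualExt (K := K) L) ≫ t₀ ≫ ψ = 1 := by
        rw [← Category.assoc, pt_comp, ← hσ, ← pt_comp, hgt, Category.assoc, htψ, MonObj.comp_one]
      apply hψ
      obtain ⟨g', hg', hgt'⟩ := AVDegLib.exists_chart_pt j' hj' hone' K K (t₀ ≫ ψ) (by
        rw [← Category.assoc, ht₀, MonObj.one_comp])
      let cst' : B' →ₐ[K] TrivSqZeroExt K K := (TrivSqZeroExt.inlAlgHom K K K).comp χ'
      have hcst' : pt j' hj' cst' = 1 := by rw [← pt_comp, hone', MonObj.comp_one]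
      have : (dualExt (K := K) L).comp g' = (dualExt L).comp cst' := pt_injective j' hj' (by
        rw [← pt_comp, ← pt_comp, hgt', hcst', hex, MonObj.comp_one])
      have hg'c : g' = cst' := AlgHom.ext fun b => dualExt_injective L (AlgHom.congr_fun this b)
      rw [← hgt', hg'c, hcst']
    exact ⟨inferInstance, hs, Etale.iff_flat_and_formallyUnramified.2 ⟨inferInstance, inferInstance, inferInstance⟩⟩
  · haveI := hψe
    let cst : B →ₐ[K] TrivSqZeroExt K K := (TrivSqZeroExt.inlAlgHom K K K).comp χ
    have hcst : pt j hj cst = 1 := by rw [← pt_comp, hone, MonObj.comp_one]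
    suffices h : t₀ = (1 : specOver K (TrivSqZeroExt K K) ⟶ E) by
      have := congrArg (fun a : B →ₐ[K] _ => (a ϖ).snd) (pt_injective j hj (h.trans hcst.symm))
      simp [hg₀ϖ, cst] at this
    apply Over.OverMorphism.ext
    let e := pullback.lift t₀.left (1 : specOver K (TrivSqZeroExt K K) ⟶ E).left
      (congrArg CommaMorphism.left (hc.trans (MonObj.one_comp ψ).symm))
    have hr : Set.range e ⊆ Set.range (pullback.diagonal ψ.left) := by
      haveI := subsingleton_spec (K := K) K
      rintro _ ⟨q, rfl⟩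
      let p₀ : Spec (CommRingCat.of K) := IsLocalRing.closedPoint K
      let sp := (specHom (TrivSqZeroExt.fstHom K K K)).left
      have e0 : sp p₀ = q := Subsingleton.elim (α := PrimeSpectrum _) _ _
      refine ⟨(1 : specOver K K ⟶ E).left p₀, ?_⟩
      rw [← e0, ← Scheme.Hom.comp_apply, ← Scheme.Hom.comp_apply]
      refine congrArg (fun m : Spec (CommRingCat.of K) ⟶ pullback ψ.left ψ.left => m p₀) (pullback.hom_ext ?_ ?_)
      · rw [Category.assoc, Category.assoc, pullback.diagonal_fst, pullback.lift_fst, Category.comp_id]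
        exact (congrArg CommaMorphism.left ht₀).symm
      · rw [Category.assoc, Category.assoc, pullback.diagonal_snd, pullback.lift_snd, Category.comp_id]
        exact (congrArg CommaMorphism.left (MonObj.comp_one (specHom (TrivSqZeroExt.fstHom K K K)))).symm
    haveI : IsOpenImmersion (pullback.diagonal ψ.left) := inferInstance
    let l := IsOpenImmersion.lift (pullback.diagonal ψ.left) e hr
    have hl : l ≫ pullback.diagonal ψ.left = e := IsOpenImmersion.lift_fac _ _ _
    have a1 : l = t₀.left := by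
      rw [← Category.comp_id l, ← pullback.diagonal_fst ψ.left, ← Category.assoc, hl, pullback.lift_fst]
    have a2 : l = (1 : specOver K (TrivSqZeroExt K K) ⟶ E).left := by
      rw [← Category.comp_id l, ← pullback.diagonal_snd ψ.left, ← Category.assoc, hl, pullback.lift_snd]
    exact a1.symm.trans a2

end Groth.Agent.ECEtale
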